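import Cfsg.Agent.EqLemmas

/-!
# Restriction of scalars for matrix groups

`exists_algebra` : the quadratic extension structure between finite fields of orders `q` and `q²`.
`matHom` : matrices over `K` as matrices over `F` through an `F`-linear coordinate system.
`exists_symplectic_hom`, `exists_isometry_hom` : embeddings into symplectic / isometry groups.
-/

set_option autoImplicit false

namespace Cfsg.Agent.Restrict

open Matrix

section Fields

variable {K F : Type*} [Field K] [Fintype K] [Field F] [Fintype F] {q : ℕ}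

theorem exists_algebra (hK : Fintype.card K = q ^ 2) (hF : Fintype.card F = q) :
    ∃ _ : Algebra F K, Module.finrank F K = 2 := by
  obtain ⟨p, hp⟩ := CharP.exists F
  haveI := hp
  haveI : Fact p.Prime := ⟨CharP.char_is_prime F p⟩
  obtain ⟨f, -, hf⟩ := FiniteField.card F p
  obtain ⟨p', hp'⟩ := CharP.exists K
  haveI := hp'
  haveI : Fact p'.Prime := ⟨CharP.char_is_prime K p'⟩
  obtain ⟨f', -, hf'⟩ := FiniteField.card K p'
  have hpp : p = p' := by
    have h : p ^ ((f : ℕ) * 2) = p' ^ (f' : ℕ) := by rw [pow_mul, ← hf, ← hf', hF, hK]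
    exact (Nat.Prime.pow_inj' Fact.out Fact.out (by simp) f'.pos.ne' h).1
  subst hpp
  letI := ZMod.algebra F p
  letI := ZMod.algebra K p
  have hdvd : Module.finrank (ZMod p) F ∣ Module.finrank (ZMod p) K := by
    have e1 := Module.card_eq_pow_finrank (K := ZMod p) (V := F)
    have e2 := Module.card_eq_pow_finrank (K := ZMod p) (V := K)
    rw [ZMod.card, hF] at e1
    rw [ZMod.card, hK, e1, ← pow_mul] at e2
    exact ⟨2, (Nat.pow_right_injective (Fact.out : p.Prime).two_le e2).symm⟩
  obtain ⟨φ⟩ := FiniteField.nonempty_algHom_of_finrank_dvd hdvd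
  letI : Algebra F K := φ.toRingHom.toAlgebra
  refine ⟨φ.toRingHom.toAlgebra, ?_⟩
  have e := Module.card_eq_pow_finrank (K := F) (V := K)
  rw [hK, hF] at e
  have h2 : 2 ≤ q := by have := Fintype.one_lt_card (α := F); omega
  exact (Nat.pow_right_injective h2 e).symm

/-- A basis `1, β` of a quadratic extension. -/
theorem exists_basis_one [Algebra F K] (h : Module.finrank F K = 2) :
    ∃ b : Module.Basis (Fin 2) F K, b 0 = 1 := by
  obtain ⟨β, hβ⟩ : ∃ β : K, β ∉ Submodule.span F {(1 : K)} := by
    by_contra h1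
    push Not at h1
    have : Module.finrank F K ≤ 1 := finrank_le_one 1 fun w => by
      obtain ⟨c, hc⟩ := Submodule.mem_span_singleton.1 (h1 w)
      exact ⟨c, hc⟩
    omega
  have hli : LinearIndependent F ![(1 : K), β] := by
    refine (LinearIndependent.pair_iff' one_ne_zero).2 fun a ha => hβ ?_
    rw [Submodule.mem_span_singleton]
    exact ⟨a, ha⟩
  exact ⟨basisOfLinearIndependentOfCardEqFinrank hli (by simp [h]), by simp⟩

theorem pow_card_algebraMap [Algebra F K] (hF : Fintype.card F = q) (c : F) :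
    algebraMap F K c ^ q = algebraMap F K c := by
  rw [← map_pow, ← hF, FiniteField.pow_card]

theorem pow_q_sq (hK : Fintype.card K = q ^ 2) (x : K) : (x ^ q) ^ q = x := by
  rw [← pow_mul, ← sq, ← hK, FiniteField.pow_card]

/-- An element fixed by `x ↦ x ^ q` lies in the base field. -/
theorem mem_range_of_pow_eq [Algebra F K] (hF : Fintype.card F = q) {x : K} (hx : x ^ q = x) :
    ∃ c : F, algebraMap F K c = x := by
  classical
  have h2 : 2 ≤ q := by have := Fintype.one_lt_card (α := F); omega
  let P : Polynomial K := Polynomial.X ^ q - Polynomial.X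
  have hP : P ≠ 0 := FiniteField.X_pow_card_sub_X_ne_zero K (by omega)
  have hsub : Finset.univ.image (algebraMap F K) ⊆ P.roots.toFinset := by
    intro y hy
    simp only [Finset.mem_image, Finset.mem_univ, true_and] at hy
    obtain ⟨c, rfl⟩ := hy
    simp [P, Polynomial.mem_roots hP, pow_card_algebraMap hF]
  have hcard : P.roots.toFinset.card ≤ (Finset.univ.image (algebraMap F K)).card := by
    rw [Finset.card_image_of_injective _ (algebraMap F K).injective, Finset.card_univ, hF]
    refine (Multiset.toFinset_card_le _).trans ((Polynomial.card_roots' P).trans ?_)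
    exact (FiniteField.X_pow_card_sub_X_natDegree_eq K (by omega)).le
  have hx' : x ∈ P.roots.toFinset := by
    simp [P, Polynomial.mem_roots hP, hx]
  rw [← Finset.eq_of_subset_of_card_le hsub hcard] at hx'
  simpa using hx'

theorem norm_mem_range [Algebra F K] (hK : Fintype.card K = q ^ 2) (hF : Fintype.card F = q) (x : K) :
    ∃ c : F, algebraMap F K c = x * x ^ q :=
  mem_range_of_pow_eq hF (by rw [mul_pow, pow_q_sq hK, mul_comm])

end Fields

section Hom

theorem mulVec_single_one_apply' {R : Type*} [CommRing R] {ι : Type} [Fintype ι] [DecidableEq ι]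
    (A : Matrix ι ι R) (i j : ι) : Pi.single i 1 ⬝ᵥ (A *ᵥ Pi.single j 1) = A i j := by
  simp [Matrix.mulVec_single_one, Matrix.transpose_apply]

variable {K F : Type*} [Field K] [Field F] [Algebra F K]
variable {n ι : Type} [Fintype n] [DecidableEq n] [Fintype ι] [DecidableEq ι]

/-- A matrix over `K`, rewritten as a matrix over `F` in the coordinates given by `L`. -/
noncomputable def matHom (L : (n → K) ≃ₗ[F] (ι → F)) : Matrix n n K →* Matrix ι ι F where
  toFun A := LinearMap.toMatrix'
    (L.toLinearMap ∘ₗ (A.mulVecLin.restrictScalars F) ∘ₗ L.symm.toLinearMap)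
  map_one' := by
    rw [show (L.toLinearMap ∘ₗ ((1 : Matrix n n K).mulVecLin.restrictScalars F) ∘ₗ L.symm.toLinearMap)
      = LinearMap.id from LinearMap.ext fun v => by simp, LinearMap.toMatrix'_id]
  map_mul' A B := by
    rw [← LinearMap.toMatrix'_comp]
    congr 1
    exact LinearMap.ext fun v => by simp [Matrix.mulVec_mulVec]

theorem matHom_mulVec (L : (n → K) ≃ₗ[F] (ι → F)) (A : Matrix n n K) (v : n → K) :
    matHom L A *ᵥ L v = L (A *ᵥ v) := by
  show LinearMap.toMatrix' _ *ᵥ L v = _
  rw [LinearMap.toMatrix'_mulVec]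
  simp

theorem matHom_injective (L : (n → K) ≃ₗ[F] (ι → F)) : Function.Injective (matHom L) := by
  intro A B h
  refine Matrix.ext_iff_mulVec.2 fun v => L.injective ?_
  rw [← matHom_mulVec, ← matHom_mulVec, h]

variable {G : Type*} [Group G]

theorem exists_gl_hom (M : G →* Matrix n n K) (hM : Function.Injective M)
    (L : (n → K) ≃ₗ[F] (ι → F)) :
    ∃ φ : G →* Matrix.GeneralLinearGroup ι F, Function.Injective φ ∧
      ∀ (g : G) (v : n → K), (φ g : Matrix ι ι F) *ᵥ L v = L (M g *ᵥ v) := by
  refine ⟨((matHom L).comp M).toHomUnits, fun g h e => hM (matHom_injective L ?_), fun g v => ?_⟩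
  · simpa using congrArg (fun u : Matrix.GeneralLinearGroup ι F => (u : Matrix ι ι F)) e
  · simpa using matHom_mulVec L (M g) v

theorem exists_isometry_hom (M : G →* Matrix n n K) (hM : Function.Injective M)
    (L : (n → K) ≃ₗ[F] (ι → F)) (Q : (ι → F) → F) (hQ : ∀ g v, Q (L (M g *ᵥ v)) = Q (L v)) :
    ∃ φ : G →* ↥(Cfsg.isometryGroup F Q), Function.Injective φ := by
  obtain ⟨φ, hφ, hv⟩ := exists_gl_hom M hM L
  refine ⟨φ.codRestrict _ fun g u _ => ?_, fun a b h => hφ (congrArg Subtype.val h)⟩
  show Q ((φ g : Matrix ι ι F) *ᵥ u) = Q u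
  rw [← L.apply_symm_apply u, hv, hQ]

theorem exists_symplectic_hom {l : Type} [Fintype l] [DecidableEq l] (M : G →* Matrix n n K)
    (hM : Function.Injective M) (L : (n → K) ≃ₗ[F] (l ⊕ l → F))
    (hL : ∀ g u v, L (M g *ᵥ u) ⬝ᵥ (Matrix.J l F *ᵥ L (M g *ᵥ v)) = L u ⬝ᵥ (Matrix.J l F *ᵥ L v)) :
    ∃ φ : G →* ↥(Matrix.symplecticGroup l F), Function.Injective φ := by
  refine ⟨((matHom L).comp M).codRestrict _ fun g => ?_,
    fun a b h => hM (matHom_injective L (congrArg Subtype.val h))⟩
  rw [SymplecticGroup.mem_iff']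
  refine Matrix.ext fun i j => ?_
  rw [← mulVec_single_one_apply' (((matHom L).comp M g)ᵀ * Matrix.J l F * (matHom L).comp M g) i j,
    ← mulVec_single_one_apply' (Matrix.J l F) i j]
  show Pi.single i 1 ⬝ᵥ (((matHom L (M g))ᵀ * Matrix.J l F * matHom L (M g)) *ᵥ Pi.single j 1) = _
  rw [← Matrix.mulVec_mulVec, ← Matrix.mulVec_mulVec, Matrix.dotProduct_mulVec,
    Matrix.vecMul_transpose, ← L.apply_symm_apply (Pi.single i 1), ← L.apply_symm_apply (Pi.single j 1),
    matHom_mulVec, matHom_mulVec, hL]

end Hom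

end Cfsg.Agent.Restrict
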