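import Cfsg.Agent.Lib.Restrict.Basic

/-!
# Sums of norm forms of a quadratic extension of finite fields

`algebraMap_norm2`, `algebraMap_trace2`; `exists_conj_root` (roots of an anisotropic binary form);
`exists_pair_equiv` : two norm forms make a hyperbolic 4-space;
`exists_plus_equiv` : an even number of norm forms makes a hyperbolic space;
`exists_minus_equiv` : an odd number makes the elliptic space.
-/

set_option autoImplicit false

namespace Cfsg.Agent.Restrict

variable {K F : Type*} [Field K] [Fintype K] [Field F] [Fintype F] [Algebra F K] {q : ℕ}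

theorem algebraMap_norm2 (h2 : Module.finrank F K = 2) (hF : Fintype.card F = q) (x : K) :
    algebraMap F K (Algebra.norm F x) = x * x ^ q := by
  rw [FiniteField.algebraMap_norm_eq_prod_pow, h2, Finset.prod_range_succ, Finset.prod_range_one,
    Nat.card_eq_fintype_card, hF, pow_zero, pow_one, pow_one]

theorem algebraMap_trace2 (h2 : Module.finrank F K = 2) (hF : Fintype.card F = q) (x : K) :
    algebraMap F K (Algebra.trace F K x) = x + x ^ q := by
  rw [FiniteField.algebraMap_trace_eq_sum_pow, h2, Finset.sum_range_succ, Finset.sum_range_one,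
    Nat.card_eq_fintype_card, hF, pow_zero, pow_one, pow_one]

theorem frob_apply (hF : Fintype.card F = q) (x : K) :
    FiniteField.frobeniusAlgHom F K x = x ^ q := by simp [hF]

theorem frob_add (hF : Fintype.card F = q) (x y : K) : (x + y) ^ q = x ^ q + y ^ q := by
  simp [← frob_apply (F := F) hF, map_add]

theorem frob_sub (hF : Fintype.card F = q) (x y : K) : (x - y) ^ q = x ^ q - y ^ q := by
  simp [← frob_apply (F := F) hF, map_sub]

theorem card_eq_sq (h2 : Module.finrank F K = 2) (hF : Fintype.card F = q) :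
    Fintype.card K = q ^ 2 := by
  rw [Module.card_eq_pow_finrank (K := F) (V := K), h2, hF]

/-- An anisotropic binary form `z₁² + a z₁ z₂ + c z₂²` splits over the quadratic extension into two
conjugate factors. -/
theorem exists_conj_root (h2 : Module.finrank F K = 2) (hF : Fintype.card F = q) (a c : F)
    (hac : ∀ z₁ z₂ : F, z₁ ^ 2 + a * z₁ * z₂ + c * z₂ ^ 2 = 0 → z₁ = 0 ∧ z₂ = 0) :
    ∃ θ : K, θ + θ ^ q = -algebraMap F K a ∧ θ * θ ^ q = algebraMap F K c ∧
      θ ∉ Set.range (algebraMap F K) := by
  classical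
  let P : Polynomial F := Polynomial.X ^ 2 + Polynomial.C a * Polynomial.X + Polynomial.C c
  have hPd : P.natDegree = 2 := by simp only [P]; compute_degree!
  have hirr : Irreducible P := by
    have hP0 : P ≠ 0 := fun h => by simp [h] at hPd
    rw [Polynomial.irreducible_iff_roots_eq_zero_of_degree_le_three (by omega) (by omega)]
    refine Multiset.eq_zero_of_forall_notMem fun x hx => ?_
    rw [Polynomial.mem_roots hP0] at hx
    have := hac x 1 (by simpa [P] using hx)
    exact one_ne_zero this.2
  haveI := Fact.mk hirr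
  have hd : Module.finrank F (AdjoinRoot P) = 2 := by
    rw [(AdjoinRoot.powerBasis hirr.ne_zero).finrank, AdjoinRoot.powerBasis_dim, hPd]
  obtain ⟨φ⟩ := FiniteField.nonempty_algHom_of_finrank_dvd (F := F) (K := AdjoinRoot P) (L := K)
    (by rw [hd, h2])
  set θ := φ (AdjoinRoot.root P)
  have hroot : θ ^ 2 + algebraMap F K a * θ + algebraMap F K c = 0 := by
    have h := Polynomial.aeval_algHom_apply φ (AdjoinRoot.root P) P
    rw [AdjoinRoot.aeval_eq, AdjoinRoot.mk_self, map_zero] at h
    simp only [P, map_add, map_mul, map_pow, Polynomial.aeval_X, Polynomial.aeval_C] at h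
    exact h
  have hnr : θ ∉ Set.range (algebraMap F K) := by
    rintro ⟨x, hx⟩
    refine one_ne_zero (hac x 1 ((algebraMap F K).injective ?_)).2
    rw [← hx] at hroot
    simpa using hroot
  have hroot' : (θ ^ q) ^ 2 + algebraMap F K a * θ ^ q + algebraMap F K c = 0 := by
    have := congrArg (FiniteField.frobeniusAlgHom F K) hroot
    simpa [frob_apply (F := F) hF, frob_add (F := F) hF, pow_card_algebraMap (K := K) hF, mul_pow,
      ← pow_mul, mul_comm, hF, zero_pow (show q ≠ 0 by rw [← hF]; exact Fintype.card_ne_zero)] using this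
  have hne : θ - θ ^ q ≠ 0 := fun h =>
    hnr (mem_range_of_pow_eq hF (sub_eq_zero.1 h).symm)
  have hsum : θ + θ ^ q = -algebraMap F K a := by
    have : (θ - θ ^ q) * (θ + θ ^ q + algebraMap F K a) = 0 := by
      linear_combination hroot - hroot'
    rcases mul_eq_zero.1 this with h | h
    · exact absurd h hne
    · exact eq_neg_of_add_eq_zero_left h
  refine ⟨θ, hsum, ?_, hnr⟩
  linear_combination θ * hsum - hroot

/-- Two norm forms make a hyperbolic four-dimensional space. -/
theorem exists_pair_equiv (h2 : Module.finrank F K = 2) (hF : Fintype.card F = q) :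
    ∃ ψ : (K × K) ≃ₗ[F] ((Fin 2 → F) × (Fin 2 → F)),
      ∀ p : K × K, ∑ k, (ψ p).1 k * (ψ p).2 k = Algebra.norm F p.1 + Algebra.norm F p.2 := by
  classical
  have hK := card_eq_sq h2 hF
  let e : Module.Basis (Fin 2) F K := Module.finBasisOfFinrankEq F K h2
  obtain ⟨γ, hγ⟩ := FiniteField.norm_surjective F K (-1)
  have hγ0 : γ ≠ 0 := fun h => by simp [h] at hγ
  have hγq : γ * γ ^ q = -1 := by rw [← algebraMap_norm2 h2 hF, hγ, map_neg, map_one]
  let u : (K × K) →ₗ[F] K := LinearMap.fst F K K - γ⁻¹ • LinearMap.snd F K K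
  let x : (K × K) →ₗ[F] (Fin 2 → F) := e.equivFun.toLinearMap ∘ₗ u
  let t : Fin 2 → (K × K) →ₗ[F] F := fun k =>
    (Algebra.trace F K).comp ((e k ^ q) • LinearMap.fst F K K)
  let y : (K × K) →ₗ[F] (Fin 2 → F) := LinearMap.pi
    ![t 0 - Algebra.norm F (e 0) • (LinearMap.proj 0 ∘ₗ x)
        - Algebra.trace F K (e 0 * e 1 ^ q) • (LinearMap.proj 1 ∘ₗ x),
      t 1 - Algebra.norm F (e 1) • (LinearMap.proj 1 ∘ₗ x)]
  have hinj : Function.Injective (x.prod y) := by
    rw [injective_iff_map_eq_zero]
    intro p hp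
    have hx : x p = 0 := congrArg Prod.fst hp
    have hy : y p = 0 := congrArg Prod.snd hp
    have hu : p.1 - γ⁻¹ * p.2 = 0 := by
      have := e.equivFun.injective (hx.trans (map_zero e.equivFun).symm)
      simpa [u] using this
    have h0 := congrFun hy 0
    have h1 := congrFun hy 1
    have hzero : ∀ z : K, Algebra.trace F K (p.1 * z) = 0 := by
      intro z
      have hz : z = ∑ k, e.equivFun (z ^ q) k • e k ^ q := by
        conv_lhs => rw [← pow_q_sq hK z, ← e.sum_equivFun (z ^ q), ← frob_apply (F := F) hF, map_sum]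
        exact Finset.sum_congr rfl fun k _ => by rw [map_smul, frob_apply (F := F) hF]
      have ha : Algebra.trace F K (e 0 ^ q * p.1) = 0 := by simpa [y, t, hx] using h0
      have hb : Algebra.trace F K (e 1 ^ q * p.1) = 0 := by simpa [y, t, hx] using h1
      rw [hz, Finset.mul_sum, Fin.sum_univ_two, mul_smul_comm, mul_smul_comm, map_add, map_smul,
        map_smul, mul_comm p.1, ha, mul_comm p.1, hb, smul_zero, smul_zero, add_zero]
    have hp1 : p.1 = 0 := (traceForm_nondegenerate F K).1 p.1 fun z => by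
      rw [Algebra.traceForm_apply]
      exact hzero z
    have hp2 : p.2 = 0 := by simpa [hp1, hγ0] using hu
    exact Prod.ext hp1 hp2
  refine ⟨LinearEquiv.ofBijective (x.prod y) ⟨hinj,
    (LinearMap.injective_iff_surjective_of_finrank_eq_finrank (by simp [h2])).1 hinj⟩, fun p => ?_⟩
  apply (algebraMap F K).injective
  have hu := e.sum_equivFun (u p)
  rw [Fin.sum_univ_two, Algebra.smul_def, Algebra.smul_def] at hu
  have hup : u p = p.1 - γ⁻¹ * p.2 := rfl
  have hb : γ * (p.1 - u p) = p.2 := by rw [hup]; field_simp; ring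
  have hn : p.2 * p.2 ^ q = -((p.1 - u p) * (p.1 - u p) ^ q) := by
    conv_lhs => rw [← hb]
    rw [mul_pow]
    linear_combination ((p.1 - u p) * (p.1 - u p) ^ q) * hγq
  have huq : u p ^ q = algebraMap F K (e.equivFun (u p) 0) * e 0 ^ q +
      algebraMap F K (e.equivFun (u p) 1) * e 1 ^ q := by
    conv_lhs => rw [← hu]
    rw [frob_add (F := F) hF, mul_pow, mul_pow, pow_card_algebraMap (K := K) hF,
      pow_card_algebraMap (K := K) hF]
  show algebraMap F K (∑ k, x p k * y p k) = _
  rw [Fin.sum_univ_two, map_add, map_add, map_mul, map_mul,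
    algebraMap_norm2 h2 hF, algebraMap_norm2 h2 hF, hn, frob_sub (F := F) hF]
  simp [x, y, t, algebraMap_norm2 h2 hF, algebraMap_trace2 h2 hF, mul_pow, pow_q_sq hK,
    frob_add (F := F) hF]
  simp only [Module.Basis.equivFun_apply] at hu huq ⊢
  generalize e.repr (u p) 0 = c0 at *
  generalize e.repr (u p) 1 = c1 at *
  generalize u p = w at *
  generalize p.1 = a at *
  generalize w ^ q = wq at *
  subst hu huq
  ring

/-- An even number of norm forms makes a hyperbolic space. -/
theorem exists_plus_equiv (h2 : Module.finrank F K = 2) (hF : Fintype.card F = q) {m : ℕ}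
    (hm : Even m) :
    ∃ L : (Fin m → K) ≃ₗ[F] (Fin m ⊕ Fin m → F),
      ∀ v, Cfsg.quadFormPlus m F (L v) = ∑ i, Algebra.norm F (v i) := by
  classical
  obtain ⟨k, rfl⟩ := hm
  obtain ⟨ψ, hψ⟩ := exists_pair_equiv h2 hF
  let e : Fin k × Fin 2 ≃ Fin (k + k) := finProdFinEquiv.trans (finCongr (by omega))
  let L : (Fin (k + k) → K) ≃ₗ[F] (Fin (k + k) ⊕ Fin (k + k) → F) :=
    { toFun := fun v => Sum.elim
        (fun l => (ψ (v (e ((e.symm l).1, 0)), v (e ((e.symm l).1, 1)))).1 (e.symm l).2)
        (fun l => (ψ (v (e ((e.symm l).1, 0)), v (e ((e.symm l).1, 1)))).2 (e.symm l).2)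
      invFun := fun w l =>
        ![(ψ.symm (fun s => w (Sum.inl (e ((e.symm l).1, s))),
            fun s => w (Sum.inr (e ((e.symm l).1, s))))).1,
          (ψ.symm (fun s => w (Sum.inl (e ((e.symm l).1, s))),
            fun s => w (Sum.inr (e ((e.symm l).1, s))))).2] (e.symm l).2
      map_add' := fun u v => by
        funext x
        cases x <;> simp [← Prod.mk_add_mk, map_add]
      map_smul' := fun c v => by
        funext x
        cases x <;> simp [← Prod.smul_mk, map_smul]
      left_inv := fun v => by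
        funext l
        obtain ⟨⟨i, s⟩, rfl⟩ := e.surjective l
        simp only [Sum.elim_inl, Sum.elim_inr, Equiv.symm_apply_apply, Prod.mk.eta,
          LinearEquiv.symm_apply_apply]
        fin_cases s <;> rfl
      right_inv := fun w => by
        funext x
        cases x with
        | inl l =>
          obtain ⟨⟨i, s⟩, rfl⟩ := e.surjective l
          simp only [Sum.elim_inl, Equiv.symm_apply_apply, Matrix.cons_val_zero, Matrix.cons_val_one,
            Prod.mk.eta, LinearEquiv.apply_symm_apply]
        | inr l =>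
          obtain ⟨⟨i, s⟩, rfl⟩ := e.surjective l
          simp only [Sum.elim_inr, Equiv.symm_apply_apply, Matrix.cons_val_zero, Matrix.cons_val_one,
            Prod.mk.eta, LinearEquiv.apply_symm_apply] }
  refine ⟨L, fun v => ?_⟩
  unfold Cfsg.quadFormPlus
  rw [← e.sum_comp, ← e.sum_comp (fun i => Algebra.norm F (v i)), Fintype.sum_prod_type,
    Fintype.sum_prod_type]
  refine Finset.sum_congr rfl fun i _ => ?_
  simp only [L, LinearEquiv.coe_mk, LinearMap.coe_mk, AddHom.coe_mk, Sum.elim_inl, Sum.elim_inr,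
    Equiv.symm_apply_apply]
  rw [hψ (v (e (i, 0)), v (e (i, 1))), Fin.sum_univ_two]

/-- An odd number of norm forms makes the elliptic space. -/
theorem exists_minus_equiv (h2 : Module.finrank F K = 2) (hF : Fintype.card F = q) {m : ℕ}
    (hm : Odd m) (a b : F)
    (hab : ∀ z₁ z₂ : F, z₁ ^ 2 + a * z₁ * z₂ + b * z₂ ^ 2 = 0 → z₁ = 0 ∧ z₂ = 0) :
    ∃ L : (Fin m → K) ≃ₗ[F] ((Fin (m - 1) ⊕ Fin (m - 1)) ⊕ Fin 2 → F),
      ∀ v, Cfsg.quadFormMinus (m - 1) F a b (L v) = ∑ i, Algebra.norm F (v i) := by
  classical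
  obtain ⟨k, rfl⟩ := hm
  obtain ⟨L0, hL0⟩ := exists_plus_equiv (m := 2 * k) h2 hF ⟨k, two_mul k⟩
  obtain ⟨θ, hsum, hprod, hnr⟩ := exists_conj_root h2 hF a b hab
  have hli : LinearIndependent F ![(1 : K), -θ] := by
    refine (LinearIndependent.pair_iff' one_ne_zero).2 fun c hc => hnr ⟨-c, ?_⟩
    rw [map_neg, Algebra.algebraMap_eq_smul_one, hc, neg_neg]
  let e : Module.Basis (Fin 2) F K :=
    basisOfLinearIndependentOfCardEqFinrank hli (by simp [h2])
  have he : ∀ z : K, z = algebraMap F K (e.equivFun z 0) - algebraMap F K (e.equivFun z 1) * θ := by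
    intro z
    conv_lhs => rw [← e.sum_equivFun z]
    simp [e, Fin.sum_univ_two, Algebra.smul_def, sub_eq_add_neg]
  let L : (Fin (2 * k + 1) → K) ≃ₗ[F] ((Fin (2 * k) ⊕ Fin (2 * k)) ⊕ Fin 2 → F) :=
    { toFun := fun v => Sum.elim (L0 (Fin.init v)) (e.equivFun (v (Fin.last _)))
      invFun := fun w => Fin.snoc (L0.symm (w ∘ Sum.inl)) (e.equivFun.symm (w ∘ Sum.inr))
      map_add' := fun u v => by
        have : Fin.init (u + v) = Fin.init u + Fin.init v := rfl
        funext x
        cases x <;> simp [this]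
      map_smul' := fun c v => by
        have : Fin.init (c • v) = c • Fin.init v := rfl
        funext x
        cases x <;> simp [this]
      left_inv := fun v => by simp [Sum.elim_comp_inl, Sum.elim_comp_inr]
      right_inv := fun w => by
        simp only [Fin.init_snoc, Fin.snoc_last, LinearEquiv.apply_symm_apply]
        exact Sum.elim_comp_inl_inr w }
  refine ⟨L, fun v => ?_⟩
  rw [Fin.sum_univ_castSucc]
  show Cfsg.quadFormMinus (2 * k) F a b (Sum.elim (L0 (Fin.init v)) (e.equivFun (v (Fin.last _)))) = _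
  have h := hL0 (Fin.init v)
  unfold Cfsg.quadFormPlus at h
  unfold Cfsg.quadFormMinus
  simp only [Sum.elim_inl, Sum.elim_inr]
  rw [h]
  refine congrArg₂ (· + ·) rfl ((algebraMap F K).injective ?_)
  rw [algebraMap_norm2 h2 hF]
  generalize hc0 : e.equivFun (v (Fin.last _)) 0 = c0
  generalize hc1 : e.equivFun (v (Fin.last _)) 1 = c1
  rw [he (v (Fin.last _)), hc0, hc1, frob_sub (F := F) hF, mul_pow,
    pow_card_algebraMap (K := K) hF, pow_card_algebraMap (K := K) hF]
  simp only [map_add, map_mul, map_pow]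
  linear_combination (algebraMap F K c0 * algebraMap F K c1) * hsum
    - (algebraMap F K c1 ^ 2) * hprod

end Cfsg.Agent.Restrict
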